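import Cfsg.Agent.Lib.OmegaSevenMult.CoverData
import Cfsg.Agent.Lib.Presented.Fi22O7.Iso
import Cfsg.Agent.Lib.Sporadic.Chain
import Cfsg.Prelude.Def_KGroupFacts
import Mathlib.GroupTheory.Abelianization.Defs
import Mathlib.GroupTheory.SpecificGroups.Cyclic.Basic

/-!
A stem extension by a cyclic group of order six of the seven dimensional orthogonal group over
three elements: eight lifts of its generators satisfy the relations up to the central element.
-/

set_option autoImplicit false
set_option Elab.async false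
set_option maxRecDepth 20000

noncomputable section

namespace CfsgLib.OmegaSevenMult

open Subgroup Cfsg CfsgLib.Orth CfsgLib.POmega CfsgLib.Sporadic CfsgLib.Presented
open CfsgLib.Presented.Fi22O7 (Q3 omX isoX relsH)

/-- The number of points of the cover. -/
abbrev coverDeg : ℕ := 3294

/-- An entry of a table. -/
def tabGet (T i : ℕ) : ℕ := (T >>> (12 * i)) % 4096

/-- The image of a point under a lift. -/
def imgC (l i : ℕ) : ℕ := tabGet (coverImg.getD l 0) i

/-- The preimage of a point under a lift. -/
def invC (l i : ℕ) : ℕ := tabGet (coverInv.getD l 0) i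

/-- The tables describe permutations commuting with the central one. -/
def permOK (l : ℕ) : Bool :=
  allFrom 0 coverDeg fun i => Nat.blt (imgC l i) coverDeg && Nat.blt (invC l i) coverDeg &&
    invC l (imgC l i) == i && imgC l (invC l i) == i && imgC l (imgC 8 i) == imgC 8 (imgC l i)

theorem perm_check_low : ∀ l : Fin 5, permOK l.val = true := by decide +kernel

theorem perm_check_high : ∀ l : Fin 4, permOK (5 + l.val) = true := by decide +kernel

theorem perm_check (l : Fin 9) : permOK l.val = true := by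
  by_cases h : l.val < 5
  · exact perm_check_low ⟨l.val, h⟩
  · have h' := perm_check_high ⟨l.val - 5, by omega⟩
    rwa [show 5 + (l.val - 5) = l.val by omega] at h'

theorem perm_at (l : Fin 9) (i : Fin coverDeg) :
    imgC l.val i.val < coverDeg ∧ invC l.val i.val < coverDeg ∧
    invC l.val (imgC l.val i.val) = i.val ∧ imgC l.val (invC l.val i.val) = i.val ∧
    imgC l.val (imgC 8 i.val) = imgC 8 (imgC l.val i.val) := by
  have h := of_allFrom_zero (perm_check l) i.2
  simp only [Bool.and_eq_true, Nat.blt_eq, beq_iff_eq] at h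
  exact ⟨h.1.1.1.1, h.1.1.1.2, h.1.1.2, h.1.2, h.2⟩

/-- A lift as a permutation. -/
def coverPerm (l : Fin 9) : Equiv.Perm (Fin coverDeg) where
  toFun i := ⟨imgC l.val i.val, (perm_at l i).1⟩
  invFun i := ⟨invC l.val i.val, (perm_at l i).2.1⟩
  left_inv i := Fin.ext (perm_at l i).2.2.1
  right_inv i := Fin.ext (perm_at l i).2.2.2.1

/-- The ambient group of the cover. -/
abbrev Amb : Type := ↥(centralizer ({coverPerm 8} : Set (Equiv.Perm (Fin coverDeg))))

theorem coverPerm_mem (l : Fin 9) :
    coverPerm l ∈ centralizer ({coverPerm 8} : Set (Equiv.Perm (Fin coverDeg))) :=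
  mem_centralizer_singleton_iff.2 (Equiv.ext fun i => Fin.ext (perm_at l i).2.2.2.2)

/-- The central element. -/
def zC : Amb := ⟨coverPerm 8, coverPerm_mem 8⟩

theorem zC_central : zC ∈ center Amb :=
  mem_center_iff.2 fun g => Subtype.ext (mem_centralizer_singleton_iff.1 g.2)

/-- The lift of a letter. -/
def liftX (x : ℕ) : Amb :=
  if h : 1 ≤ x ∧ x ≤ 8 then ⟨coverPerm ⟨x - 1, by omega⟩, coverPerm_mem _⟩ else 1

/-- The image of a point under a word. -/
def wordC (w : List ℕ) (i : ℕ) : ℕ := w.foldr (fun x a => imgC (x - 1) a) i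

theorem val_word : ∀ w : List ℕ, (w.all fun x => Nat.ble 1 x && Nat.ble x 8) = true →
    ∀ i : Fin coverDeg, (((w.map liftX).prod : Amb).1 i).val = wordC w i.val
  | [], _, i => rfl
  | x :: w, h, i => by
    simp only [List.all_cons, Bool.and_eq_true, Nat.ble_eq] at h
    rw [List.map_cons, List.prod_cons, Subgroup.coe_mul, Equiv.Perm.mul_apply, wordC,
      List.foldr_cons]
    have ih := val_word w h.2 i
    rw [wordC] at ih
    rw [← ih, liftX, dif_pos h.1]
    rfl

theorem val_zpow : ∀ (k : ℕ) (i : Fin coverDeg),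
    ((zC ^ k : Amb).1 i).val = wordC (List.replicate k 9) i.val
  | 0, i => by rw [pow_zero]; rfl
  | k + 1, i => by
    rw [pow_succ', Subgroup.coe_mul, Equiv.Perm.mul_apply, List.replicate_succ, wordC,
      List.foldr_cons, show (List.replicate k 9).foldr (fun x a => imgC (x - 1) a) i.val =
        wordC (List.replicate k 9) i.val from rfl, ← val_zpow k i]
    rfl

/-- A relation holds up to a power of the central element. -/
def relOK (w : List ℕ) (e : ℕ) : Bool :=
  (w.all fun x => Nat.ble 1 x && Nat.ble x 8) &&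
    allFrom 0 coverDeg fun i => wordC w i == wordC (List.replicate e 9) i

theorem eq_zpow_of_relOK {w : List ℕ} {e : ℕ} (h : relOK w e = true) :
    (w.map liftX).prod = zC ^ e := by
  simp only [relOK, Bool.and_eq_true] at h
  refine Subtype.ext (Equiv.ext fun i => Fin.ext ?_)
  rw [val_word w h.1 i, val_zpow]
  exact beq_iff_eq.1 (of_allFrom_zero h.2 i.2)

theorem relOK_parts {w : List ℕ} {e lo : ℕ} (hw : (w.all fun x => Nat.ble 1 x && Nat.ble x 8) = true)
    (hlo : lo ≤ coverDeg) (h₁ : allFrom 0 lo (fun i => wordC w i == wordC (List.replicate e 9) i) = true)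
    (h₂ : allFrom lo (coverDeg - lo) (fun i => wordC w i == wordC (List.replicate e 9) i) = true) :
    relOK w e = true := by
  have h := allFrom_append h₁ (by rwa [Nat.zero_add])
  rw [Nat.add_sub_cancel' hlo] at h
  rw [relOK, hw, h]
  rfl

/-- The check of one relation on an interval of points. -/
def relPart (r lo m : ℕ) : Bool :=
  allFrom lo m fun i => wordC (relsH.getD r []) i == wordC (List.replicate (relExp.getD r 0) 9) i

theorem rel_ok_group0 : ((List.range' 0 7).all fun r =>
    relOK (relsH.getD r []) (relExp.getD r 0)) = true := by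
  decide +kernel

theorem rel_ok_group1 : ((List.range' 7 7).all fun r =>
    relOK (relsH.getD r []) (relExp.getD r 0)) = true := by
  decide +kernel

theorem rel_ok_group2 : ((List.range' 14 5).all fun r =>
    relOK (relsH.getD r []) (relExp.getD r 0)) = true := by
  decide +kernel

theorem rel_ok_group3 : ((List.range' 19 5).all fun r =>
    relOK (relsH.getD r []) (relExp.getD r 0)) = true := by
  decide +kernel

theorem rel_ok_group4 : ((List.range' 24 4).all fun r =>
    relOK (relsH.getD r []) (relExp.getD r 0)) = true := by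
  decide +kernel

theorem rel_ok_short (r : ℕ) (hr : r < 28) : relOK (relsH.getD r []) (relExp.getD r 0) = true := by
  by_cases h0 : r < 7
  · exact List.all_eq_true.1 rel_ok_group0 r (List.mem_range'_1.2 ⟨by omega, by omega⟩)
  by_cases h1 : r < 14
  · exact List.all_eq_true.1 rel_ok_group1 r (List.mem_range'_1.2 ⟨by omega, by omega⟩)
  by_cases h2 : r < 19
  · exact List.all_eq_true.1 rel_ok_group2 r (List.mem_range'_1.2 ⟨by omega, by omega⟩)
  by_cases h3 : r < 24
  · exact List.all_eq_true.1 rel_ok_group3 r (List.mem_range'_1.2 ⟨by omega, by omega⟩)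
  exact List.all_eq_true.1 rel_ok_group4 r (List.mem_range'_1.2 ⟨by omega, by omega⟩)

theorem rel_words_big : ((relsH.getD 28 []).all fun x => Nat.ble 1 x && Nat.ble x 8) = true ∧
    ((relsH.getD 29 []).all fun x => Nat.ble 1 x && Nat.ble x 8) = true := by
  decide +kernel

theorem rel_ninety_a : relPart 28 0 1098 = true := by decide +kernel

theorem rel_ninety_b : relPart 28 1098 1098 = true := by decide +kernel

theorem rel_ninety_c : relPart 28 2196 1098 = true := by decide +kernel

theorem rel_last_a : relPart 29 0 1647 = true := by decide +kernel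

theorem rel_last_b : relPart 29 1647 1647 = true := by decide +kernel

theorem rel_ok_ninety : relOK (relsH.getD 28 []) (relExp.getD 28 0) = true :=
  relOK_parts (lo := 1098) rel_words_big.1 (by norm_num) rel_ninety_a (allFrom_append rel_ninety_b rel_ninety_c)

theorem rel_ok_last : relOK (relsH.getD 29 []) (relExp.getD 29 0) = true :=
  relOK_parts (lo := 1647) rel_words_big.2 (by norm_num) rel_last_a rel_last_b

theorem relsH_length : relsH.length = 30 := by decide +kernel

theorem rel_ok : ((List.range relsH.length).all fun r =>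
    relOK (relsH.getD r []) (relExp.getD r 0)) = true := by
  refine List.all_eq_true.2 fun r hr => ?_
  rw [List.mem_range, relsH_length] at hr
  by_cases h : r < 28
  · exact rel_ok_short r h
  · rcases (show r = 28 ∨ r = 29 by omega) with rfl | rfl
    · exact rel_ok_ninety
    · exact rel_ok_last

theorem sq_ok : ((List.range 8).all fun j => relOK [j + 1, j + 1] 3) = true := by decide +kernel

theorem z_facts : relExp.getD 28 0 = 1 ∧ relExp.getD 1 0 = 3 ∧ relsH.getD 1 [] = [1, 3, 1, 3] ∧
    28 < relsH.length ∧ ((List.range 9).all fun x => (relsH.getD 28 []).count x % 2 == 0) = true ∧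
    relOK [] 6 = true ∧ relOK [] 3 = false ∧ relOK [] 2 = false := by
  decide +kernel

theorem lift_rel (r : ℕ) (hr : r < relsH.length) :
    ((relsH.getD r []).map liftX).prod = zC ^ relExp.getD r 0 :=
  eq_zpow_of_relOK (List.all_eq_true.1 rel_ok r (List.mem_range.2 hr))

theorem lift_sq {x : ℕ} (h1 : 1 ≤ x) (h8 : x ≤ 8) : liftX x * liftX x = zC ^ 3 := by
  have h := eq_zpow_of_relOK (List.all_eq_true.1 sq_ok (x - 1) (List.mem_range.2 (by omega)))
  rw [Nat.sub_add_cancel h1] at h
  simpa using h

theorem orderOf_zC : orderOf zC = 6 := by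
  have h6 : zC ^ 6 = 1 := (eq_zpow_of_relOK z_facts.2.2.2.2.2.1).symm
  have hne : ∀ k : ℕ, relOK [] k = false → zC ^ k ≠ 1 := by
    intro k hk h
    have : allFrom 0 coverDeg (fun i => wordC [] i == wordC (List.replicate k 9) i) = true := by
      refine allFrom_eq_true.2 fun i _ hi => beq_iff_eq.2 ?_
      have e := val_zpow k ⟨i, by omega⟩
      rw [h] at e
      exact e
    rw [relOK, this] at hk
    simp at hk
  refine (orderOf_eq_iff (by norm_num)).2 ⟨h6, fun m hm hpos he => ?_⟩
  have h3 : zC ^ 3 ≠ 1 := hne 3 z_facts.2.2.2.2.2.2.1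
  have h2 : zC ^ 2 ≠ 1 := hne 2 z_facts.2.2.2.2.2.2.2
  interval_cases m
  · exact h3 (by rw [pow_succ, pow_succ, pow_one] at *; simp_all)
  · exact h2 he
  · exact h3 he
  · exact h2 (by
      calc zC ^ 2 = zC ^ 2 * zC ^ 6 := by rw [h6, mul_one]
        _ = (zC ^ 4) ^ 2 := by rw [← pow_mul, ← pow_add]
        _ = 1 := by rw [he, one_pow])
  · exact h3 (by
      calc zC ^ 3 = zC ^ 3 * (zC ^ 6) ^ 2 := by rw [h6, one_pow, mul_one]
        _ = (zC ^ 5) ^ 3 := by rw [← pow_mul, ← pow_mul, ← pow_add]
        _ = 1 := by rw [he, one_pow])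

/-- The pair of a letter. -/
def evK (x : ℕ) : Amb × ↥(commutator (O Q3)) := (liftX x, omX x)

/-- The cover. -/
def coverGrp : Subgroup (Amb × ↥(commutator (O Q3))) := genBy evK [1, 2, 3, 4, 5, 6, 7, 8]

theorem omX_rels {w : List ℕ} (hw : w ∈ relsH) : (w.map omX).prod = 1 := by
  refine Subtype.ext ?_
  show (commutator (O Q3)).subtype (w.map omX).prod = 1
  rw [map_list_prod, List.map_map]
  exact Fi22O7.isoX_rels w hw

theorem evK_rel (r : ℕ) (hr : r < relsH.length) :
    ((relsH.getD r []).map evK).prod = (zC ^ relExp.getD r 0, 1) := by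
  refine Prod.ext ?_ ?_
  · show MonoidHom.fst _ _ _ = _
    rw [map_list_prod, List.map_map]
    exact lift_rel r hr
  · show MonoidHom.snd _ _ _ = _
    rw [map_list_prod, List.map_map]
    exact omX_rels (by rw [List.getD_eq_getElem _ _ hr]; exact List.getElem_mem hr)

theorem exists_cover : ∃ (Γ : Type) (_ : Group Γ) (_ : Finite Γ)
    (σ : Γ →* ↥(commutator (O Q3))), IsStemExtension σ ∧
      Nonempty (σ.ker ≃* Multiplicative (ZMod 6)) := by
  classical
  have hN : (zpowers zC).Normal := ⟨fun x hx g => by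
    obtain ⟨k, rfl⟩ := mem_zpowers_iff.mp hx
    rw [mem_center_iff.mp (zpow_mem zC_central k) g, mul_inv_cancel_right]
    exact zpow_mem (mem_zpowers zC) k⟩
  let π : Amb × ↥(commutator (O Q3)) →* (Amb ⧸ zpowers zC) × ↥(commutator (O Q3)) :=
    (QuotientGroup.mk' (zpowers zC)).prodMap (MonoidHom.id _)
  let evP : ℕ → (Amb ⧸ zpowers zC) × ↥(commutator (O Q3)) := fun x => π (evK x)
  have hone : evP Fi22OCert.alphabet.eps = 1 := by
    rw [Fi22O7.alph.1]
    show π (liftX 9, omX 9) = 1
    rw [liftX, dif_neg (by norm_num), show omX 9 = 1 from Subtype.ext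
      (show isoX 9 = 1 from if_neg (by norm_num))]
    exact map_one π
  have hinv : ∀ x, x < Fi22OCert.alphabet.eps → evP (Fi22OCert.alphabet.invl x) * evP x = 1 := by
    intro x hx
    rw [Fi22O7.alph.1] at hx
    rw [Fi22O7.alph.2 x hx]
    refine Prod.ext ?_ (Subtype.ext (Fi22O7.isoX_sq x))
    show QuotientGroup.mk' (zpowers zC) (liftX x) * QuotientGroup.mk' (zpowers zC) (liftX x) = 1
    rw [← map_mul, QuotientGroup.mk'_apply, QuotientGroup.eq_one_iff]
    by_cases h : 1 ≤ x ∧ x ≤ 8
    · rw [lift_sq h.1 h.2]; exact pow_mem (mem_zpowers zC) 3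
    · rw [liftX, dif_neg h, one_mul]; exact one_mem _
  have hrels : ∀ w ∈ relsH, evW evP w = 1 := by
    intro w hw
    obtain ⟨r, hr, rfl⟩ := List.getElem_of_mem hw
    have h := congrArg π (evK_rel r hr)
    rw [map_list_prod, List.map_map, List.getD_eq_getElem _ _ hr] at h
    refine h.trans (Prod.ext ?_ rfl)
    exact (QuotientGroup.eq_one_iff _).2 (pow_mem (mem_zpowers zC) _)
  obtain ⟨hne, hle⟩ := Fi22O7.card_le hone hinv hrels
  have hcardG : Nat.card ↥(commutator (O Q3)) = 4585351680 := by
    have h := Subgroup.card_eq_card_quotient_mul_card_subgroup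
      (Subgroup.center ↥(commutator (O Q3)))
    rw [Fi22O7.center_trivial, mul_one] at h
    exact h.trans Fi22O7.card_om
  have : Finite ↥(commutator (O Q3)) := Nat.finite_of_card_ne_zero (by rw [hcardG]; norm_num)
  have himg : coverGrp.map π = genBy evP [1, 2, 3, 4, 5, 6, 7, 8] := by
    rw [coverGrp, genBy, genBy, MonoidHom.map_closure, Set.image_image]
  have hfin : Finite ↥(coverGrp.map π) := by
    rw [himg]; exact Nat.finite_of_card_ne_zero hne
  rw [← himg] at hle
  have hsnd : coverGrp.map (MonoidHom.snd Amb ↥(commutator (O Q3))) = ⊤ := by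
    rw [coverGrp, genBy, MonoidHom.map_closure, Set.image_image]
    exact Fi22O7.gen_top
  let σ : coverGrp →* ↥(commutator (O Q3)) := (MonoidHom.snd _ _).comp coverGrp.subtype
  have hsurj : Function.Surjective σ := by
    intro g
    obtain ⟨q, hq, rfl⟩ : g ∈ coverGrp.map (MonoidHom.snd Amb ↥(commutator (O Q3))) := by
      rw [hsnd]; exact mem_top g
    exact ⟨⟨q, hq⟩, rfl⟩
  let snd' : coverGrp.map π →* ↥(commutator (O Q3)) :=
    (MonoidHom.snd _ _).comp (coverGrp.map π).subtype
  have hsurj' : Function.Surjective snd' := fun g => by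
    obtain ⟨q, rfl⟩ := hsurj g
    exact ⟨⟨π q, mem_map_of_mem π q.2⟩, rfl⟩
  have hinj : Function.Injective snd' :=
    ((Nat.bijective_iff_surjective_and_card snd').2 ⟨hsurj', le_antisymm (by rw [hcardG]; exact hle)
      (Nat.card_le_card_of_surjective snd' hsurj')⟩).1
  have hker : ∀ q : coverGrp, q ∈ σ.ker → (q : Amb × ↥(commutator (O Q3))).1 ∈ zpowers zC := by
    intro q hq
    have h1 : (⟨π q, mem_map_of_mem π q.2⟩ : coverGrp.map π) = 1 :=
      (injective_iff_map_eq_one snd').mp hinj _ hq
    exact (QuotientGroup.eq_one_iff _).mp (congrArg Prod.fst (congrArg Subtype.val h1))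
  -- the lifts inside the cover
  let gK : ℕ → coverGrp := fun x =>
    if h : x ∈ [1, 2, 3, 4, 5, 6, 7, 8] then ⟨evK x, mem_genBy evK h⟩ else 1
  have gKval : ∀ w : List ℕ, (w.all fun x => Nat.ble 1 x && Nat.ble x 8) = true →
      (((w.map gK).prod : coverGrp) : Amb × ↥(commutator (O Q3))) = (w.map evK).prod := by
    intro w hw
    show coverGrp.subtype _ = _
    rw [map_list_prod, List.map_map]
    refine congrArg List.prod (List.map_congr_left fun x hx => ?_)
    have hx' := List.all_eq_true.1 hw x hx
    simp only [Bool.and_eq_true, Nat.ble_eq] at hx'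
    have hmem : x ∈ [1, 2, 3, 4, 5, 6, 7, 8] := by simp only [List.mem_cons, List.not_mem_nil]; omega
    show coverGrp.subtype (gK x) = evK x
    simp only [gK, dif_pos hmem]
    rfl
  have hletters : ∀ r < relsH.length,
      ((relsH.getD r []).all fun x => Nat.ble 1 x && Nat.ble x 8) = true := fun r hr => by
    have h := List.all_eq_true.1 rel_ok r (List.mem_range.2 hr)
    rw [relOK, Bool.and_eq_true] at h
    exact h.1
  obtain ⟨he28, he1, hw1, h28, hcount, -⟩ := z_facts
  let zK : coverGrp := ((relsH.getD 28 []).map gK).prod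
  have hzK : (zK : Amb × ↥(commutator (O Q3))) = (zC, 1) := by
    rw [gKval _ (hletters 28 h28), evK_rel 28 h28, he28, pow_one]
  have hgk2 : ∀ x, 1 ≤ x → x ≤ 8 → gK x * gK x = zK ^ 3 := by
    intro x h1 h8
    have hmem : x ∈ [1, 2, 3, 4, 5, 6, 7, 8] := by simp only [List.mem_cons, List.not_mem_nil]; omega
    refine Subtype.ext ?_
    rw [Subgroup.coe_mul, SubmonoidClass.coe_pow, hzK]
    simp only [gK, dif_pos hmem]
    exact Prod.ext (by rw [Prod.pow_fst]; exact lift_sq h1 h8)
      (Subtype.ext (by rw [Prod.pow_snd, one_pow]; exact Fi22O7.isoX_sq x))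
  have hzKrel : gK 1 * (gK 3 * (gK 1 * gK 3)) = zK ^ 3 := by
    have h1 : 1 < relsH.length := by omega
    refine Subtype.ext ?_
    have e := gKval _ (hletters 1 h1)
    rw [evK_rel 1 h1, he1, hw1] at e
    simp only [List.map_cons, List.map_nil, List.prod_cons, List.prod_nil, mul_one] at e
    rw [e, SubmonoidClass.coe_pow, hzK]
    exact Prod.ext rfl (one_pow 3).symm
  have hzcomm : zK ∈ commutator coverGrp := by
    suffices h : Abelianization.of zK = 1 from (Abelianization.ker_of coverGrp) ▸ (MonoidHom.mem_ker.2 h)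
    let a : ℕ → Abelianization coverGrp := fun x => Abelianization.of (gK x)
    have hsq : ∀ x, 1 ≤ x → x ≤ 8 → a x * a x = Abelianization.of zK ^ 3 := fun x h1 h8 => by
      show Abelianization.of (gK x) * Abelianization.of (gK x) = _
      rw [← map_mul, hgk2 x h1 h8, map_pow]
    have hc : Abelianization.of zK ^ 3 = 1 := by
      have h := congrArg Abelianization.of hzKrel
      rw [map_mul, map_mul, map_mul, map_pow] at h
      have h' : (a 1 * a 1) * (a 3 * a 3) = Abelianization.of zK ^ 3 := by
        rw [← h]; simp only [a]; ac_rfl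
      rw [hsq 1 le_rfl (by norm_num), hsq 3 (by norm_num) (by norm_num)] at h'
      exact mul_left_cancel (h'.trans (mul_one _).symm)
    have hsq' : ∀ x, a x ^ 2 = 1 := by
      intro x
      by_cases h : 1 ≤ x ∧ x ≤ 8
      · rw [pow_two, hsq x h.1 h.2, hc]
      · have hx : ¬ x ∈ [1, 2, 3, 4, 5, 6, 7, 8] := by
          intro hm
          simp only [List.mem_cons, List.not_mem_nil, or_false] at hm
          rcases hm with rfl | rfl | rfl | rfl | rfl | rfl | rfl | rfl <;> simp_all
        simp only [a, gK, dif_neg hx, map_one, one_pow]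
    show Abelianization.of ((relsH.getD 28 []).map gK).prod = 1
    rw [map_list_prod, List.map_map, Finset.prod_list_map_count]
    refine Finset.prod_eq_one fun x hx => ?_
    have hx8 : x < 9 := by
      have := List.all_eq_true.1 (hletters 28 h28) x (List.mem_toFinset.1 hx)
      simp only [Bool.and_eq_true, Nat.ble_eq] at this
      omega
    have hev := beq_iff_eq.1 (List.all_eq_true.1 hcount x (List.mem_range.2 hx8))
    obtain ⟨m, hm⟩ := Nat.dvd_of_mod_eq_zero hev
    show a x ^ _ = 1
    rw [hm, pow_mul, hsq', one_pow]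
  refine ⟨coverGrp, inferInstance, ?_, σ, ⟨hsurj, ?_, ?_⟩, ⟨?_⟩⟩
  · infer_instance
  · intro q hq
    rw [mem_center_iff]
    intro g
    obtain ⟨k, hk⟩ := mem_zpowers_iff.mp (hker q hq)
    refine Subtype.ext (Prod.ext ?_ ?_)
    · show (g : Amb × ↥(commutator (O Q3))).1 * (q : Amb × ↥(commutator (O Q3))).1 = _
      rw [← hk]
      show _ = (q : Amb × ↥(commutator (O Q3))).1 * _
      rw [← hk]
      exact mem_center_iff.mp (zpow_mem zC_central k) _
    · show (g : Amb × ↥(commutator (O Q3))).2 * σ q = σ q * (g : Amb × ↥(commutator (O Q3))).2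
      rw [MonoidHom.mem_ker.mp hq, mul_one, one_mul]
  · intro q hq
    obtain ⟨k, hk⟩ := mem_zpowers_iff.mp (hker q hq)
    have : q = zK ^ k := by
      refine Subtype.ext (Prod.ext ?_ ?_)
      · rw [coe_zpow, hzK, Prod.pow_fst, hk]
      · rw [coe_zpow, hzK, Prod.pow_snd, one_zpow]; exact hq
    rw [this]
    exact zpow_mem hzcomm k
  · let f : σ.ker →* zpowers zC :=
      ((MonoidHom.fst Amb ↥(commutator (O Q3))).comp (coverGrp.subtype.comp σ.ker.subtype)).codRestrict
        (zpowers zC) fun q => hker q q.2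
    have hf : Function.Bijective f := by
      refine ⟨(injective_iff_map_eq_one f).2 fun q hq => ?_, fun w => ?_⟩
      · exact Subtype.ext (Subtype.ext (Prod.ext (congrArg Subtype.val hq) q.2))
      · obtain ⟨k, hk⟩ := mem_zpowers_iff.mp w.2
        refine ⟨⟨zK ^ k, ?_⟩, Subtype.ext ?_⟩
        · show σ (zK ^ k) = 1
          rw [map_zpow, show σ zK = 1 from congrArg Prod.snd hzK, one_zpow]
        · show ((zK ^ k : coverGrp) : Amb × ↥(commutator (O Q3))).1 = _
          rw [coe_zpow, hzK, Prod.pow_fst, hk]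
    exact (MulEquiv.ofBijective f hf).trans (mulEquivOfCyclicCardEq (by
      rw [Nat.card_zpowers, orderOf_zC, Nat.card_eq_fintype_card]; simp))

end CfsgLib.OmegaSevenMult

end
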