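import Cfsg.Agent.Lib.OmegaSevenMult.Data
import Cfsg.Agent.Lib.Presented.Fi22O7.Iso
import Cfsg.Agent.Lib.Schur.PcAssemble
import Cfsg.Agent.Lib.Schur.PcTail
import Cfsg.Agent.Lib.Schur.MatFThree
import Cfsg.Agent.Lib.Schur.CriteriaElements

/-!
Bounds on the Schur multiplier of the seven dimensional orthogonal group over three elements.
-/

set_option autoImplicit false
set_option Elab.async false
set_option maxRecDepth 20000

noncomputable section

namespace CfsgLib.OmegaSevenMult

open Subgroup Cfsg CfsgLib.Orth CfsgLib.POmega CfsgLib.Schur CfsgLib.Schur.MatFThree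
  CfsgLib.Sporadic
open CfsgLib.Presented.Fi22O7 (Q3 Idx isoX omX matX mat mat_injective mat_isoX)

/-- The commutator group of the isometry group. -/
abbrev Om : Type := ↥(commutator (O Q3))

theorem card_Om : Nat.card Om = 4585351680 := by
  have h := Subgroup.card_eq_card_quotient_mul_card_subgroup (Subgroup.center Om)
  rw [CfsgLib.Presented.Fi22O7.center_trivial, mul_one] at h
  exact h.trans CfsgLib.Presented.Fi22O7.card_om

instance : Finite Om := Nat.finite_of_card_ne_zero (by rw [card_Om]; norm_num)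

/-- The coordinate of a position. -/
def idxF : Fin 7 → Idx :=
  ![.inl (), .inr (.inl 0), .inr (.inl 1), .inr (.inl 2), .inr (.inr 0), .inr (.inr 1), .inr (.inr 2)]

/-- The position of a coordinate. -/
def idxG : Idx → Fin 7
  | .inl _ => 0
  | .inr (.inl i) => ⟨1 + i.val, by omega⟩
  | .inr (.inr i) => ⟨4 + i.val, by omega⟩

/-- The numbering of coordinates. -/
def idxE : Fin 7 ≃ Idx := ⟨idxF, idxG, by decide +kernel, by decide +kernel⟩

/-- The matrix of an element. -/
def mat7 : Om →* Matrix (Fin 7) (Fin 7) (ZMod 3) :=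
  { toFun := fun x => (mat x.1).submatrix idxE idxE
    map_one' := by rw [OneMemClass.coe_one, map_one, Matrix.submatrix_one_equiv]
    map_mul' := fun x y => by rw [Subgroup.coe_mul, map_mul, Matrix.submatrix_mul_equiv] }

theorem mat7_injective : Function.Injective mat7 := fun x y h => by
  refine Subtype.ext (mat_injective ?_)
  have h' : ((mat x.1).submatrix idxE idxE).submatrix idxE.symm idxE.symm =
      ((mat y.1).submatrix idxE idxE).submatrix idxE.symm idxE.symm :=
    congrArg (fun M : Matrix (Fin 7) (Fin 7) (ZMod 3) => M.submatrix idxE.symm idxE.symm) h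
  simpa [Matrix.submatrix_submatrix] using h'

/-- The relation between codes and elements. -/
def Rep7 (c : ℕ) (x : Om) : Prop := decF3 7 c = mat7 x

theorem rep7_one : Rep7 (oneF3 7) 1 := by rw [Rep7, decF3_oneF3, map_one]

theorem rep7_mul {a b : ℕ} {x y : Om} (ha : Rep7 a x) (hb : Rep7 b y) :
    Rep7 (mulF3 7 a b) (x * y) := by
  rw [Rep7, decF3_mulF3, map_mul, ha, hb]

theorem rep7_uniq {a : ℕ} {x y : Om} (ha : Rep7 a x) (hb : Rep7 a y) : x = y :=
  mat7_injective (ha.symm.trans hb)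

theorem base_check : ∀ i : Fin 8,
    decF3 7 (baseCodes.getD i.val 0) = (matX (i.val + 1)).submatrix idxE idxE := by
  decide +kernel

theorem base_rep : ∀ c ∈ baseCodes, ∃ x, Rep7 c x := by
  intro c hc
  obtain ⟨i, hi, rfl⟩ := List.getElem_of_mem hc
  refine ⟨omX (i + 1), ?_⟩
  have h := base_check ⟨i, hi⟩
  simp only [List.getD_eq_getElem _ _ hi] at h
  show decF3 7 baseCodes[i] = (mat (isoX (i + 1))).submatrix idxE idxE
  rw [h, mat_isoX]

/-- One step of the program. -/
def slp7 (base : List ℕ) (n : ℕ) (T U : Tr) (k : ℕ) : Bool :=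
  bif Nat.blt k base.length then T.get k == base.getD k 0
  else
    Nat.blt (U.get k / (n + 1)) k &&
      (bif U.get k % (n + 1) == 0 then mulF3 7 (T.get k) (T.get (U.get k / (n + 1))) == oneF3 7
        else Nat.blt (U.get k % (n + 1) - 1) k &&
          T.get k == mulF3 7 (T.get (U.get k / (n + 1))) (T.get (U.get k % (n + 1) - 1)))

theorem slp_check : allFrom 0 nNodes (slp7 baseCodes nNodes nodeTr opTr) = true := by
  decide +kernel

theorem node_rep : ∀ k < nNodes, ∃ x, Rep7 (nodeTr.get k) x := by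
  intro k
  induction k using Nat.strong_induction_on with
  | _ k ih =>
    intro hk
    have hb := of_allFrom_zero slp_check hk
    rw [slp7] at hb
    by_cases hkb : k < baseCodes.length
    · rw [show Nat.blt k baseCodes.length = true from Nat.blt_eq.mpr hkb, cond_true, beq_iff_eq,
        List.getD_eq_getElem _ _ hkb] at hb
      exact base_rep _ (hb ▸ List.getElem_mem hkb)
    · rw [show Nat.blt k baseCodes.length = false from Bool.eq_false_iff.mpr (mt Nat.blt_eq.mp hkb),
        cond_false, Bool.and_eq_true, Nat.blt_eq] at hb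
      obtain ⟨a, ha⟩ := ih _ hb.1 (by omega)
      have hb2 := hb.2
      by_cases hj0 : opTr.get k % (nNodes + 1) = 0
      · rw [hj0, beq_self_eq_true, cond_true, beq_iff_eq] at hb2
        refine ⟨a⁻¹, ?_⟩
        calc decF3 7 (nodeTr.get k) = decF3 7 (nodeTr.get k) * (mat7 a * mat7 a⁻¹) := by
              rw [← map_mul, mul_inv_cancel, map_one, mul_one]
          _ = decF3 7 (mulF3 7 (nodeTr.get k) (nodeTr.get (opTr.get k / (nNodes + 1)))) * mat7 a⁻¹ := by
              rw [decF3_mulF3, ha, Matrix.mul_assoc]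
          _ = mat7 a⁻¹ := by rw [hb2, decF3_oneF3, one_mul]
      · rw [show (opTr.get k % (nNodes + 1) == 0) = false from beq_eq_false_iff_ne.mpr hj0, cond_false,
          Bool.and_eq_true, Nat.blt_eq, beq_iff_eq] at hb2
        obtain ⟨b, hb'⟩ := ih _ hb2.1 (by omega)
        exact ⟨a * b, hb2.2 ▸ rep7_mul ha hb'⟩

/-- The codes at listed nodes. -/
def codesAt (l : List ℕ) : List ℕ := l.map nodeTr.get

theorem codesAt_rep {l : List ℕ} (h : l.all (fun k => Nat.blt k nNodes) = true) (i : ℕ) :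
    ∃ x, Rep7 ((codesAt l).getD i (oneF3 7)) x := by
  rcases Nat.lt_or_ge i (codesAt l).length with hi | hi
  · rw [List.getD_eq_getElem _ _ hi]
    obtain ⟨k, hk, e⟩ := List.mem_map.1 (List.getElem_mem hi : (codesAt l)[i] ∈ codesAt l)
    rw [← e]
    exact node_rep k (by simpa [Nat.blt_eq] using List.all_eq_true.1 h k hk)
  · rw [List.getD_eq_default _ _ hi]; exact ⟨1, rep7_one⟩

/-- The separating rows are closed under the later generators and moved by their own. -/
def sep7 (cs : List ℕ) (n : ℕ) (seps : List (List ℕ)) : Bool :=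
  (List.range n).all fun i =>
    let L := seps.getD i []
    Nat.blt 0 L.length &&
      ((List.range n).all fun j => Nat.ble j i ||
        L.all fun l => L.contains (mulF3 7 l (cs.getD j (oneF3 7)))) &&
      (L.all fun l => !(keyF3 7 l == keyF3 7 (mulF3 7 (L.getD 0 0) (cs.getD i (oneF3 7)))))

/-- Everything to check at a prime. -/
def pc7 (R : Pc.Rules) (C : Pc.Cert) (gi ki : List ℕ) (fuel : ℕ) (seps : List (List ℕ)) : Bool :=
  R.shapeOK && C.eqnsOK R fuel && C.solveOK R &&
    Pc.holdsOK (mulF3 7) (oneF3 7) R C (codesAt gi) (codesAt ki) && sep7 (codesAt gi) R.n seps &&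
    gi.all (fun k => Nat.blt k nNodes) && ki.all (fun k => Nat.blt k nNodes)

theorem spanAt_of_pc7 {p : ℕ} [Fact p.Prime] {R : Pc.Rules} {C : Pc.Cert} {gi ki : List ℕ}
    {fuel : ℕ} {seps : List (List ℕ)} (hok : pc7 R C gi ki fuel seps = true) (hRp : R.p = p)
    {d : ℕ} (hd : ¬ p ∣ d) (hord : 4585351680 = p ^ R.n * d) {ords : List ℕ}
    (hlen : C.us.length = ords.length) (hords : C.ords = ords) : Pc.SpanAt p Om ords := by
  simp only [pc7, Bool.and_eq_true] at hok
  obtain ⟨⟨⟨⟨⟨⟨hshape, heqs⟩, hsolve⟩, hholds⟩, hsep⟩, hgi⟩, hki⟩ := hok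
  choose gs hgs using codesAt_rep hgi
  choose cg hcg using codesAt_rep hki
  have hH := Pc.holds_of_check Rep7 rep7_one rep7_mul rep7_uniq hgs hcg hholds
  have hp : R.p.Prime := hRp ▸ Fact.out
  refine Pc.spanAt_of_cert hH hshape heqs hsolve hRp (hRp ▸ ?_) hd (card_Om.trans hord) hlen hords
  simp only [sep7, List.all_eq_true, List.mem_range, Bool.and_eq_true, Bool.or_eq_true,
    Nat.ble_eq, Nat.blt_eq] at hsep
  refine Pc.le_card_of_separators hH hshape hp (fun i x => ∃ l ∈ seps.getD i [],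
    decF3 7 ((seps.getD i []).getD 0 0) * mat7 x = decF3 7 l) ?_ ?_ ?_
  · intro i hi
    refine ⟨(seps.getD i []).getD 0 0, ?_, by rw [map_one, mul_one]⟩
    rw [List.getD_eq_getElem _ _ (hsep i hi).1.1]
    exact List.getElem_mem _
  · rintro i j hij hj x ⟨l, hl, e⟩
    have h2 := ((hsep i (by omega)).1.2 j hj).resolve_left (by omega) l hl
    refine ⟨_, List.contains_iff_mem.1 h2, ?_⟩
    rw [decF3_mulF3, hgs j, map_mul, ← Matrix.mul_assoc, e]
  · rintro i hi ⟨l, hl, e⟩
    have h3 := (hsep i hi).2 l hl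
    rw [Bool.not_eq_true', beq_eq_false_iff_ne] at h3
    refine h3 (keyF3_eq ?_)
    rw [decF3_mulF3, hgs i, e]

theorem two_check : pc7 twoRules twoCert twoIdx twoConjIdx twoFuel twoSeps = true := by
  simp only [pc7, Bool.and_eq_true]
  refine ⟨⟨⟨⟨⟨⟨?_, ?_⟩, ?_⟩, ?_⟩, ?_⟩, ?_⟩, ?_⟩ <;> decide +kernel

theorem three_check : pc7 threeRules threeCert threeIdx threeConjIdx threeFuel threeSeps = true := by
  simp only [pc7, Bool.and_eq_true]
  refine ⟨⟨⟨⟨⟨⟨?_, ?_⟩, ?_⟩, ?_⟩, ?_⟩, ?_⟩, ?_⟩ <;> decide +kernel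

theorem span_two : Pc.SpanAt 2 Om [2] :=
  spanAt_of_pc7 (p := 2) two_check rfl (d := 8955765) (by norm_num) (by norm_num [twoRules]) rfl rfl

theorem span_three : Pc.SpanAt 3 Om [3] :=
  spanAt_of_pc7 (p := 3) three_check rfl (d := 232960) (by norm_num) (by norm_num [threeRules]) rfl rfl

/-- The code of a power. -/
def powC (c : ℕ) : ℕ → ℕ
  | 0 => oneF3 7
  | k + 1 => mulF3 7 (powC c k) c

theorem rep7_pow {c : ℕ} {x : Om} (h : Rep7 c x) : ∀ k, Rep7 (powC c k) (x ^ k)
  | 0 => by rw [pow_zero]; exact rep7_one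
  | k + 1 => by rw [pow_succ]; exact rep7_mul (rep7_pow h k) h

theorem cyc_check : ∀ i : Fin 3, cycIdx.getD i.val 0 < nNodes ∧
    keyF3 7 (powC (nodeTr.get (cycIdx.getD i.val 0)) ([5, 7, 13].getD i.val 0)) = keyF3 7 (oneF3 7) ∧
    keyF3 7 (nodeTr.get (cycIdx.getD i.val 0)) ≠ keyF3 7 (oneF3 7) := by
  decide +kernel

theorem span_cyclic (i : Fin 3) (p d : ℕ) (hp : p.Prime) (hpi : [5, 7, 13].getD i.val 0 = p)
    (hd : ¬ p ∣ d) (hord : 4585351680 = p ^ 1 * d) : Pc.SpanAt p Om [] := by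
  have : Fact p.Prime := ⟨hp⟩
  obtain ⟨hk, h1, h2⟩ := cyc_check i
  obtain ⟨x, hx⟩ := node_rep _ hk
  rw [hpi] at h1
  refine Pc.spanAt_of_noMultiplierAt hp
    (noMultiplierAt_of_sylow_element x 1 d ?_ hd (card_Om.trans hord))
  rw [pow_one]
  refine orderOf_eq_prime (rep7_uniq (rep7_pow hx p) ?_) fun e => h2 (keyF3_eq ?_)
  · rw [Rep7, decF3_eq_of_key h1]; exact rep7_one
  · rw [hx, e, map_one, decF3_oneF3]

theorem span_rest (p : ℕ) (hp : p.Prime) (h2 : p ≠ 2) (h3 : p ≠ 3) : Pc.SpanAt p Om [] := by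
  have : Fact p.Prime := ⟨hp⟩
  by_cases hd : p ∣ Nat.card Om
  · rw [card_Om, show (4585351680 : ℕ) = 2 ^ 9 * 3 ^ 9 * 5 * 7 * 13 by norm_num] at hd
    rcases hp.dvd_mul.mp hd with hd | hd
    rcases hp.dvd_mul.mp hd with hd | hd
    rcases hp.dvd_mul.mp hd with hd | hd
    rcases hp.dvd_mul.mp hd with hd | hd
    · exact absurd ((Nat.prime_dvd_prime_iff_eq hp Nat.prime_two).mp (hp.dvd_of_dvd_pow hd)) h2
    · exact absurd ((Nat.prime_dvd_prime_iff_eq hp Nat.prime_three).mp (hp.dvd_of_dvd_pow hd)) h3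
    · obtain rfl := (Nat.prime_dvd_prime_iff_eq hp (by norm_num)).mp hd
      exact span_cyclic 0 5 917070336 hp rfl (by norm_num) (by norm_num)
    · obtain rfl := (Nat.prime_dvd_prime_iff_eq hp (by norm_num)).mp hd
      exact span_cyclic 1 7 655050240 hp rfl (by norm_num) (by norm_num)
    · obtain rfl := (Nat.prime_dvd_prime_iff_eq hp (by norm_num)).mp hd
      exact span_cyclic 2 13 352719360 hp rfl (by norm_num) (by norm_num)
  · exact Pc.spanAt_of_noMultiplierAt hp (noMultiplierAt_of_not_dvd hd)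

end CfsgLib.OmegaSevenMult

end
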