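import Cfsg.Agent.Lib.OmegaSevenMult.Transport
import Cfsg.Agent.Lib.OmegaSevenMult.Upper
import Cfsg.Agent.Lib.OmegaSevenMult.Cover

/-!
The Schur multiplier of the seven dimensional orthogonal group over three elements is cyclic of
order six.
-/

set_option autoImplicit false

noncomputable section

namespace CfsgLib.OmegaSevenMult

open Subgroup Cfsg CfsgLib.Orth CfsgLib.POmega CfsgLib.Schur
open CfsgLib.Presented.Fi22O7 (Q3 Idx)

theorem multiplier_Om : HasCyclicSchurMultiplier Om 6 :=
  Pc.hasCyclicSchurMultiplier_of_spans (a := 2) (b := 3) (pa := 2) (pb := 3) rfl (by norm_num)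
    span_two span_three span_rest exists_cover

/-- The commutator group is its own quotient by the centre. -/
theorem nonempty_om_equiv : Nonempty (Om ≃* Cfsg.POmega (ZMod 3) (Cfsg.quadFormOdd 3 (ZMod 3))) := by
  rw [← oddQ_coe]
  let f : Om →* Cfsg.POmega (ZMod 3) ⇑Q3 := QuotientGroup.mk' (Subgroup.center Om)
  refine ⟨MulEquiv.ofBijective f ⟨?_, QuotientGroup.mk'_surjective _⟩⟩
  rw [← MonoidHom.ker_eq_bot_iff, QuotientGroup.ker_mk', ← Subgroup.card_eq_one]
  exact CfsgLib.Presented.Fi22O7.center_trivial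

theorem multiplier {F : Type*} [Field F] [Fintype F] (hF : Fintype.card F = 3) :
    HasCyclicSchurMultiplier (Cfsg.POmega F (Cfsg.quadFormOdd 3 F)) 6 := by
  obtain ⟨e₁⟩ := nonempty_om_equiv
  let e : ZMod 3 ≃+* F := ZMod.ringEquivOfPrime F Nat.prime_three hF
  obtain ⟨e₂⟩ := pomega_field_congr e (Cfsg.quadFormOdd 3 (ZMod 3)) (Cfsg.quadFormOdd 3 F) fun v => by
    simp [Cfsg.quadFormOdd, map_sum]
  exact hasCyclicSchurMultiplier_congr (e₁.trans e₂) multiplier_Om

end CfsgLib.OmegaSevenMult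

end
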